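import Cfsg.Agent.Lib.UnitalCode.Hex

/-!
Data for the code of the Hermitian unital over the field with five elements.
-/

set_option autoImplicit false

namespace Cfsg.Agent.Lib.UnitalCode

/-- An element of order 13. -/
def mat13 : Matrix (Fin 3) (Fin 3) Hex := !![hx 3, hx 8, hx 3; hx 12, hx 10, hx 10; hx 3, hx 12, hx 7]

/-- An element of order 10. -/
def mat10 : Matrix (Fin 3) (Fin 3) Hex := !![hx 14, hx 8, hx 4; hx 4, hx 5, hx 10; hx 15, hx 4, hx 4]

/-- An element of order 15. -/
def mat15 : Matrix (Fin 3) (Fin 3) Hex := !![hx 1, hx 5, hx 4; hx 14, hx 5, hx 12; hx 9, hx 1, hx 6]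

/-- A word of the code, three bits for each code of a normalised vector. -/
def wordTable : ℕ := 458192716049458272461732198138085408478675496019606051613936523930976532438348125712088538032958088321771333321843313655797383373064881907809610517815314681904206813430795979896635186530150506127185280672493132694345565700908323615328572442257404327968747025074969836856867027409362894195106762480109909785214540458173530108110325990223733311616392942585347319532503074993750734029334280979611648

/-- Representatives of the orbits of the element of order 13 on the unital. -/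
def orbRep : Fin 5 → Fin 3 → Hex := ![![hx 0, hx 1, hx 1], ![hx 0, hx 1, hx 8], ![hx 0, hx 1, hx 12], ![hx 1, hx 0, hx 10], ![hx 1, hx 2, hx 9]]

/-- Four secants. -/
def selPole : Fin 4 → Fin 3 → Hex := ![![hx 0, hx 0, hx 1], ![hx 0, hx 1, hx 0], ![hx 0, hx 1, hx 2], ![hx 0, hx 1, hx 3]]

/-- The intersection numbers of the four secants with the orbits. -/
def selCoef : Fin 4 → Fin 5 → ZMod 5 := ![![0, 1, 2, 2, 0], ![1, 0, 2, 2, 0], ![2, 2, 0, 0, 1], ![0, 2, 0, 2, 1]]

/-- Codes of the points, orbit by orbit. -/
def orbCode : Fin 5 → Fin 13 → ℕ := ![![17, 257, 31, 482, 437, 333, 403, 294, 438, 402, 491, 292, 323],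
  ![24, 318, 483, 473, 327, 416, 487, 382, 322, 313, 26, 339, 354],
  ![28, 377, 308, 374, 384, 436, 271, 264, 293, 272, 470, 309, 478],
  ![266, 448, 411, 338, 359, 343, 355, 413, 496, 268, 493, 310, 331],
  ![297, 349, 365, 372, 407, 469, 347, 363, 446, 373, 441, 302, 468]]

end Cfsg.Agent.Lib.UnitalCode
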