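import Cfsg.Prelude.Def_Classical
import Cfsg.Agent.Lib.UnitalCode.Data
import Cfsg.Agent.Lib.PrimeGraph.ModuleExtension

/-!
The module of dimension twelve over the field with five elements for `SU₃(4)`, inside the code of
the Hermitian unital: elements of order 13 fix no non-zero vector.
-/

set_option autoImplicit false

namespace Cfsg.Agent.Lib.UnitalCode

open scoped Matrix

/-- Vectors. -/
abbrev HVec := Fin 3 → Hex

/-- The Hermitian form. -/
def hForm (u v : HVec) : Hex := Cfsg.hermForm 3 Hex 4 u v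

/-- Points of the unital. -/
def IsPt (v : HVec) : Prop := v ≠ 0 ∧ hForm v v = 0

instance : DecidablePred IsPt := fun v => inferInstanceAs (Decidable (_ ∧ _))

/-- The first non-zero coordinate. -/
def leadCoord (v : HVec) : Hex := if v 0 ≠ 0 then v 0 else if v 1 ≠ 0 then v 1 else v 2

/-- The normalised multiple. -/
def hNrm (v : HVec) : HVec := fun i => hexInv (leadCoord v) * v i

/-- The code of a vector. -/
def vecNum (v : HVec) : ℕ := (v 0).num.val * 256 + (v 1).num.val * 16 + (v 2).num.val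

/-- The vector with a code. -/
def numVec (n : ℕ) : HVec := ![hx (n / 256), hx (n / 16), hx n]

/-- The points, orbit by orbit. -/
def orbPt (j : Fin 5) (i : Fin 13) : HVec := numVec (orbCode j i)

/-- The normalised points. -/
def nSet : Finset HVec := (Finset.univ : Finset (Fin 5 × Fin 13)).image fun p => orbPt p.1 p.2

theorem vec_eta (v : HVec) : v = ![v 0, v 1, v 2] := by funext i; fin_cases i <;> rfl

theorem hNrm_eq_smul (v : HVec) : hNrm v = hexInv (leadCoord v) • v := rfl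

theorem leadCoord_ne_zero : ∀ v : HVec, v ≠ 0 → leadCoord v ≠ 0 := by
  intro v hv h
  refine hv (funext fun i => ?_)
  unfold leadCoord at h
  by_cases h0 : v 0 ≠ 0
  · rw [if_pos h0] at h; exact absurd h h0
  rw [if_neg h0] at h
  by_cases h1 : v 1 ≠ 0
  · rw [if_pos h1] at h; exact absurd h h1
  rw [if_neg h1] at h
  rw [not_not] at h0 h1
  fin_cases i
  · exact h0
  · exact h1
  · exact h

theorem inv_leadCoord_ne_zero {v : HVec} (hv : v ≠ 0) : hexInv (leadCoord v) ≠ 0 :=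
  inv_ne_zero (leadCoord_ne_zero v hv)

theorem hNrm_smul {c : Hex} (hc : c ≠ 0) (v : HVec) : hNrm (c • v) = hNrm v := by
  funext i
  show (leadCoord (c • v))⁻¹ * (c * v i) = (leadCoord v)⁻¹ * v i
  have : leadCoord (c • v) = c * leadCoord v := by
    unfold leadCoord
    simp only [Pi.smul_apply, smul_eq_mul, mul_ne_zero_iff, hc, not_false_eq_true, true_and, ne_eq,
      mul_eq_zero, false_or]
    split_ifs <;> rfl
  rw [this, mul_inv_rev, mul_assoc, inv_mul_cancel_left₀ hc]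

theorem hForm_smul_left (c : Hex) (u v : HVec) : hForm (c • u) v = c * hForm u v := by
  simp [hForm, Cfsg.hermForm, Finset.mul_sum, mul_assoc]

theorem hForm_smul_right (c : Hex) (u v : HVec) : hForm u (c • v) = c ^ 4 * hForm u v := by
  simp [hForm, Cfsg.hermForm, Finset.mul_sum, mul_pow, mul_left_comm]

theorem isPt_smul {c : Hex} (hc : c ≠ 0) (v : HVec) : IsPt (c • v) ↔ IsPt v := by
  unfold IsPt
  rw [hForm_smul_left, hForm_smul_right, mul_eq_zero, mul_eq_zero, ne_eq, smul_eq_zero]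
  simp [hc]

set_option maxRecDepth 20000 in
theorem orbPt_spec : ∀ j : Fin 5, ∀ i : Fin 13, IsPt (orbPt j i) ∧ hNrm (orbPt j i) = orbPt j i ∧
    hNrm (mat13 *ᵥ orbPt j i) = orbPt j (i + 1) := by
  decide +kernel

set_option maxRecDepth 20000 in
theorem mem_nSet_aux : ∀ a b c : Hex, IsPt ![a, b, c] → hNrm ![a, b, c] = ![a, b, c] →
    ∃ j : Fin 5, ∃ i : Fin 13, orbCode j i = vecNum ![a, b, c] := by
  decide +kernel

theorem numVec_vecNum : ∀ a b c : Hex, numVec (vecNum ![a, b, c]) = ![a, b, c] := by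
  decide +kernel

theorem mem_nSet {v : HVec} : v ∈ nSet ↔ IsPt v ∧ hNrm v = v := by
  constructor
  · intro h
    obtain ⟨p, -, rfl⟩ := Finset.mem_image.1 h
    exact ⟨(orbPt_spec p.1 p.2).1, (orbPt_spec p.1 p.2).2.1⟩
  · rintro ⟨h1, h2⟩
    rw [vec_eta v] at h1 h2 ⊢
    obtain ⟨j, i, h⟩ := mem_nSet_aux _ _ _ h1 h2
    refine Finset.mem_image.2 ⟨(j, i), Finset.mem_univ _, ?_⟩
    show numVec (orbCode j i) = _
    rw [h, numVec_vecNum]

theorem hNrm_mem_nSet {v : HVec} (hv : IsPt v) : hNrm v ∈ nSet := by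
  have hc := inv_leadCoord_ne_zero hv.1
  rw [mem_nSet, hNrm_eq_smul, isPt_smul hc, hNrm_smul hc, ← hNrm_eq_smul]
  exact ⟨hv, rfl⟩

/-- The code of the unital: functions on points whose sum along every secant vanishes. -/
def codeC : AddSubgroup (HVec → ZMod 5) where
  carrier := {f | (∀ v, ¬ IsPt v → f v = 0) ∧ (∀ (c : Hex) v, c ≠ 0 → f (c • v) = f v) ∧
    ∀ u, hForm u u ≠ 0 → ∑ x ∈ nSet.filter (fun x => hForm x u = 0), f x = 0}
  zero_mem' := ⟨fun _ _ => rfl, fun _ _ _ => rfl, fun _ _ => Finset.sum_const_zero⟩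
  add_mem' := fun {f g} hf hg => ⟨fun v hv => by simp [hf.1 v hv, hg.1 v hv],
    fun c v hc => by simp [hf.2.1 c v hc, hg.2.1 c v hc],
    fun u hu => by simp only [Pi.add_apply, Finset.sum_add_distrib, hf.2.2 u hu, hg.2.2 u hu, add_zero]⟩
  neg_mem' := fun {f} hf => ⟨fun v hv => by simp [hf.1 v hv],
    fun c v hc => by simp [hf.2.1 c v hc],
    fun u hu => by simp only [Pi.neg_apply, Finset.sum_neg_distrib, hf.2.2 u hu, neg_zero]⟩

theorem mem_codeC {f : HVec → ZMod 5} : f ∈ codeC ↔ (∀ v, ¬ IsPt v → f v = 0) ∧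
    (∀ (c : Hex) v, c ≠ 0 → f (c • v) = f v) ∧
    ∀ u, hForm u u ≠ 0 → ∑ x ∈ nSet.filter (fun x => hForm x u = 0), f x = 0 := Iff.rfl

theorem code_hNrm {f : HVec → ZMod 5} (hf : f ∈ codeC) {v : HVec} (hv : v ≠ 0) : f (hNrm v) = f v :=
  (mem_codeC.1 hf).2.1 _ v (inv_leadCoord_ne_zero hv)

/-- Differences along pairs of points. -/
def delta : (HVec → ZMod 5) →+ (HVec → HVec → ZMod 5) where
  toFun f a b := if IsPt a ∧ IsPt b then f a - f b else 0
  map_zero' := by funext a b; simp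
  map_add' f g := by
    funext a b
    simp only [Pi.add_apply]
    split_ifs <;> abel

/-- The module. -/
def modV : AddSubgroup (HVec → HVec → ZMod 5) := codeC.map delta

/-- The group acting. -/
abbrev hGroup := ↥(Cfsg.SU 3 Hex 4)

/-- The matrix of an element. -/
abbrev hMat (g : hGroup) : Matrix (Fin 3) (Fin 3) Hex := (g.1 : Matrix (Fin 3) (Fin 3) Hex)

theorem hMat_mul (g h : hGroup) (v : HVec) : hMat (g * h) *ᵥ v = hMat g *ᵥ (hMat h *ᵥ v) := by
  rw [Matrix.mulVec_mulVec]; rfl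

theorem hMat_one (v : HVec) : hMat 1 *ᵥ v = v := Matrix.one_mulVec v

theorem hMat_inv (g : hGroup) (v : HVec) : hMat g⁻¹ *ᵥ (hMat g *ᵥ v) = v := by
  rw [← hMat_mul, inv_mul_cancel, hMat_one]

theorem hMat_inv' (g : hGroup) (v : HVec) : hMat g *ᵥ (hMat g⁻¹ *ᵥ v) = v := by
  rw [← hMat_mul, mul_inv_cancel, hMat_one]

theorem hForm_hMat (g : hGroup) (u v : HVec) : hForm (hMat g *ᵥ u) (hMat g *ᵥ v) = hForm u v := g.2 u v

theorem isPt_hMat (g : hGroup) (v : HVec) : IsPt (hMat g *ᵥ v) ↔ IsPt v := by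
  unfold IsPt
  rw [hForm_hMat]
  refine and_congr_left fun _ => not_congr ⟨fun h => ?_, fun h => by rw [h, Matrix.mulVec_zero]⟩
  rw [← hMat_inv g v, h, Matrix.mulVec_zero]

theorem codeC_comp (g : hGroup) {f : HVec → ZMod 5} (hf : f ∈ codeC) :
    (fun v => f (hMat g *ᵥ v)) ∈ codeC := by
  obtain ⟨h1, h2, h3⟩ := mem_codeC.1 hf
  refine ⟨fun v hv => h1 _ (mt (isPt_hMat g v).1 hv), fun c v hc => ?_, fun u hu => ?_⟩
  · show f (hMat g *ᵥ (c • v)) = _
    rw [Matrix.mulVec_smul]; exact h2 c _ hc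
  · rw [← h3 (hMat g *ᵥ u) (by rwa [hForm_hMat])]
    refine Finset.sum_bij' (fun x _ => hNrm (hMat g *ᵥ x)) (fun y _ => hNrm (hMat g⁻¹ *ᵥ y)) ?_ ?_ ?_ ?_ ?_
    · intro x hx
      rw [Finset.mem_filter] at hx ⊢
      refine ⟨hNrm_mem_nSet ((isPt_hMat g x).2 (mem_nSet.1 hx.1).1), ?_⟩
      rw [hNrm_eq_smul, hForm_smul_left, hForm_hMat, hx.2, mul_zero]
    · intro y hy
      rw [Finset.mem_filter] at hy ⊢
      refine ⟨hNrm_mem_nSet ((isPt_hMat g⁻¹ y).2 (mem_nSet.1 hy.1).1), ?_⟩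
      rw [hNrm_eq_smul, hForm_smul_left]
      have h := hForm_hMat g⁻¹ y (hMat g *ᵥ u)
      rw [hMat_inv] at h
      rw [h, hy.2, mul_zero]
    · intro x hx
      have hx' := mem_nSet.1 (Finset.mem_filter.1 hx).1
      show hNrm (hMat g⁻¹ *ᵥ hNrm (hMat g *ᵥ x)) = x
      rw [hNrm_eq_smul (hMat g *ᵥ x), Matrix.mulVec_smul, hMat_inv,
        hNrm_smul (inv_leadCoord_ne_zero ((isPt_hMat g x).2 hx'.1).1), hx'.2]
    · intro y hy
      have hy' := mem_nSet.1 (Finset.mem_filter.1 hy).1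
      show hNrm (hMat g *ᵥ hNrm (hMat g⁻¹ *ᵥ y)) = y
      rw [hNrm_eq_smul (hMat g⁻¹ *ᵥ y), Matrix.mulVec_smul, hMat_inv',
        hNrm_smul (inv_leadCoord_ne_zero ((isPt_hMat g⁻¹ y).2 hy'.1).1), hy'.2]
    · intro x hx
      have hx' := mem_nSet.1 (Finset.mem_filter.1 hx).1
      exact (code_hNrm hf ((isPt_hMat g x).2 hx'.1).1).symm

/-- The translate of a vector of the module. -/
def actFun (g : hGroup) (h : HVec → HVec → ZMod 5) : HVec → HVec → ZMod 5 :=
  fun a b => h (hMat g⁻¹ *ᵥ a) (hMat g⁻¹ *ᵥ b)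

theorem actFun_delta (g : hGroup) (f : HVec → ZMod 5) :
    actFun g (delta f) = delta fun v => f (hMat g⁻¹ *ᵥ v) := by
  funext a b
  simp only [actFun, delta, AddMonoidHom.coe_mk, ZeroHom.coe_mk, isPt_hMat]

theorem actFun_mem (g : hGroup) {h : HVec → HVec → ZMod 5} (hh : h ∈ modV) : actFun g h ∈ modV := by
  obtain ⟨f, hf, rfl⟩ := hh
  exact ⟨_, codeC_comp g⁻¹ hf, (actFun_delta g f).symm⟩

/-- The action on the module. -/
def modAct : hGroup →* AddMonoid.End modV where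
  toFun g :=
    { toFun := fun h => ⟨actFun g h.1, actFun_mem g h.2⟩
      map_zero' := rfl
      map_add' := fun _ _ => rfl }
  map_one' := by
    refine AddMonoidHom.ext fun h => Subtype.ext (funext fun a => funext fun b => ?_)
    show h.1 (hMat 1⁻¹ *ᵥ a) (hMat 1⁻¹ *ᵥ b) = h.1 a b
    rw [inv_one, hMat_one, hMat_one]
  map_mul' g k := by
    refine AddMonoidHom.ext fun h => Subtype.ext (funext fun a => funext fun b => ?_)
    show h.1 (hMat (g * k)⁻¹ *ᵥ a) (hMat (g * k)⁻¹ *ᵥ b) =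
      h.1 (hMat k⁻¹ *ᵥ (hMat g⁻¹ *ᵥ a)) (hMat k⁻¹ *ᵥ (hMat g⁻¹ *ᵥ b))
    rw [mul_inv_rev, hMat_mul, hMat_mul]

/-- A word of the code. -/
def wordFun (v : HVec) : ZMod 5 :=
  if IsPt v then ((wordTable >>> (3 * vecNum (hNrm v)) % 8 : ℕ) : ZMod 5) else 0

set_option maxRecDepth 20000 in
theorem wordFun_secants : ∀ a b c : Hex, hForm ![a, b, c] ![a, b, c] ≠ 0 →
    hNrm ![a, b, c] = ![a, b, c] →
    (∑ j : Fin 5, ∑ i : Fin 13, if hForm (orbPt j i) ![a, b, c] = 0 then
      ((wordTable >>> (3 * orbCode j i) % 8 : ℕ) : ZMod 5) else 0) = 0 := by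
  decide +kernel

theorem vecNum_orbPt : ∀ j i, vecNum (orbPt j i) = orbCode j i := by decide +kernel

theorem orbPt_injective : Function.Injective (fun p : Fin 5 × Fin 13 => orbPt p.1 p.2) := by
  have h : ∀ j j' : Fin 5, ∀ i i' : Fin 13, orbCode j i = orbCode j' i' → j = j' ∧ i = i' := by
    decide +kernel
  intro p p' hp
  have hc := congrArg vecNum hp
  rw [vecNum_orbPt, vecNum_orbPt] at hc
  obtain ⟨h1, h2⟩ := h _ _ _ _ hc
  exact Prod.ext h1 h2

theorem sum_secant (f : HVec → ZMod 5) (u : HVec) :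
    ∑ x ∈ nSet.filter (fun x => hForm x u = 0), f x =
      ∑ j : Fin 5, ∑ i : Fin 13, if hForm (orbPt j i) u = 0 then f (orbPt j i) else 0 := by
  rw [Finset.sum_filter, nSet, Finset.sum_image orbPt_injective.injOn, Fintype.sum_prod_type]

theorem wordFun_mem : wordFun ∈ codeC := by
  refine ⟨fun v hv => if_neg hv, fun c v hc => ?_, fun u hu => ?_⟩
  · simp only [wordFun, isPt_smul hc, hNrm_smul hc]
  · have hu0 : u ≠ 0 := fun h => hu (by rw [h]; simp [hForm, Cfsg.hermForm])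
    have hc := inv_leadCoord_ne_zero hu0
    have hu' : hForm (hNrm u) (hNrm u) ≠ 0 := by
      rw [hNrm_eq_smul, hForm_smul_left, hForm_smul_right]
      exact mul_ne_zero hc (mul_ne_zero (pow_ne_zero _ hc) hu)
    have h := wordFun_secants (hNrm u 0) (hNrm u 1) (hNrm u 2) (by rw [← vec_eta]; exact hu')
      (by rw [← vec_eta, hNrm_eq_smul u, hNrm_smul hc, ← hNrm_eq_smul])
    rw [← vec_eta] at h
    refine Eq.trans ?_ h
    rw [sum_secant]
    refine Finset.sum_congr rfl fun j _ => Finset.sum_congr rfl fun i _ => ?_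
    have e1 : hForm (orbPt j i) (hNrm u) = 0 ↔ hForm (orbPt j i) u = 0 := by
      rw [hNrm_eq_smul, hForm_smul_right, mul_eq_zero]
      simp [pow_eq_zero_iff', hc]
    simp only [wordFun, (orbPt_spec j i).1, if_true, (orbPt_spec j i).2.1, vecNum_orbPt, e1]

set_option maxRecDepth 20000 in
theorem wordTable_nonconst : ∃ j : Fin 5, ∃ i : Fin 13,
    ((wordTable >>> (3 * orbCode j i) % 8 : ℕ) : ZMod 5) ≠
      ((wordTable >>> (3 * orbCode 0 0) % 8 : ℕ) : ZMod 5) := by decide +kernel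

theorem modV_nontrivial : Nontrivial modV := by
  refine ⟨⟨⟨delta wordFun, wordFun, wordFun_mem, rfl⟩, 0, fun h => ?_⟩⟩
  obtain ⟨j, i, hji⟩ := wordTable_nonconst
  have h' := congrFun (congrFun (congrArg Subtype.val h) (orbPt j i)) (orbPt 0 0)
  simp only [delta, AddMonoidHom.coe_mk, ZeroHom.coe_mk, (orbPt_spec _ _).1, and_self, if_true,
    wordFun, (orbPt_spec _ _).2.1, vecNum_orbPt, ZeroMemClass.coe_zero, Pi.zero_apply] at h'
  exact hji (sub_eq_zero.1 h')

set_option maxRecDepth 20000 in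
theorem selCoef_spec : ∀ k : Fin 4, hForm (selPole k) (selPole k) ≠ 0 ∧
    ∀ j : Fin 5, ((Finset.univ.filter fun i : Fin 13 => hForm (orbPt j i) (selPole k) = 0).card : ZMod 5)
      = selCoef k j := by
  decide +kernel

theorem selCoef_solve : ∀ a b c d e : ZMod 5, (∀ k, selCoef k 0 * a + selCoef k 1 * b + selCoef k 2 * c +
    selCoef k 3 * d + selCoef k 4 * e = 0) → a = b ∧ b = c ∧ c = d ∧ d = e := by
  decide +kernel

theorem mul_thirteen : ∀ c : ZMod 5, c + c + c + c + c + c + c + c + c + c + c + c + c = 0 → c = 0 := by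
  decide

/-- A fixed vector of the element of order 13 is zero. -/
theorem fixed_eq_zero {X : hGroup} (hX : hMat X = mat13) {h : modV} (hfix : modAct X h = h) : h = 0 := by
  obtain ⟨f, hf, hfh⟩ := h.2
  have hfix' : actFun X h.1 = h.1 := congrArg Subtype.val hfix
  rw [← hfh] at hfix'
  have hsh : ∀ a b, IsPt a → IsPt b → f a - f b = f (mat13 *ᵥ a) - f (mat13 *ᵥ b) := by
    intro a b ha hb
    have e := congrFun (congrFun hfix' (mat13 *ᵥ a)) (mat13 *ᵥ b)
    rw [← hX] at e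
    simp only [actFun, delta, AddMonoidHom.coe_mk, ZeroHom.coe_mk, hMat_inv, isPt_hMat, ha, hb,
      and_self, if_true] at e
    rwa [← hX]
  have hne : ∀ j i, mat13 *ᵥ orbPt j i ≠ 0 := fun j i => by
    rw [← hX]; exact ((isPt_hMat X _).2 (orbPt_spec j i).1).1
  set c := f (mat13 *ᵥ orbPt 0 0) - f (orbPt 0 0) with hc
  have hstep : ∀ j i, f (orbPt j (i + 1)) = f (orbPt j i) + c := by
    intro j i
    have e := hsh (orbPt j i) (orbPt 0 0) (orbPt_spec j i).1 (orbPt_spec 0 0).1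
    rw [← (orbPt_spec j i).2.2, code_hNrm hf (hne j i), hc]
    calc f (mat13 *ᵥ orbPt j i) = f (mat13 *ᵥ orbPt j i) - f (mat13 *ᵥ orbPt 0 0) + f (mat13 *ᵥ orbPt 0 0) := by
          abel
      _ = _ := by rw [← e]; abel
  have hc0 : c = 0 := by
    refine mul_thirteen c ?_
    have e : f (orbPt 0 0) = f (orbPt 0 0) + (c + c + c + c + c + c + c + c + c + c + c + c + c) := by
      conv_lhs => rw [show (0 : Fin 13) =
        (0 : Fin 13) + 1 + 1 + 1 + 1 + 1 + 1 + 1 + 1 + 1 + 1 + 1 + 1 + 1 from rfl]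
      simp only [hstep, ← add_assoc]
    simpa using e
  have hconst : ∀ j i, f (orbPt j i) = f (orbPt j 0) := by
    intro j i
    induction i using Fin.induction with
    | zero => rfl
    | succ i ih => rw [← Fin.coeSucc_eq_succ, hstep, hc0, add_zero, ih]
  have hk : ∀ k, selCoef k 0 * f (orbPt 0 0) + selCoef k 1 * f (orbPt 1 0) + selCoef k 2 * f (orbPt 2 0) +
      selCoef k 3 * f (orbPt 3 0) + selCoef k 4 * f (orbPt 4 0) = 0 := by
    intro k
    have e := (mem_codeC.1 hf).2.2 (selPole k) (selCoef_spec k).1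
    rw [sum_secant, Finset.sum_congr rfl (g := fun j => selCoef k j * f (orbPt j 0)) (fun j _ => by
      rw [← (selCoef_spec k).2 j, ← Finset.sum_filter, Finset.sum_congr rfl (fun i _ => hconst j i),
        Finset.sum_const, nsmul_eq_mul]), Fin.sum_univ_five] at e
    exact e
  obtain ⟨h1, h2, h3, h4⟩ := selCoef_solve _ _ _ _ _ hk
  have hall : ∀ v, IsPt v → f v = f (orbPt 0 0) := by
    intro v hv
    obtain ⟨⟨j, i⟩, -, he⟩ := Finset.mem_image.1 (hNrm_mem_nSet hv)
    rw [← code_hNrm hf hv.1, ← he]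
    show f (orbPt j i) = _
    rw [hconst]
    fin_cases j
    · rfl
    · exact h1.symm
    · exact (h1.trans h2).symm
    · exact (h1.trans (h2.trans h3)).symm
    · exact (h1.trans (h2.trans (h3.trans h4))).symm
  refine Subtype.ext ?_
  rw [← hfh]
  funext a b
  simp only [delta, AddMonoidHom.coe_mk, ZeroHom.coe_mk, ZeroMemClass.coe_zero, Pi.zero_apply]
  split_ifs with hab
  · rw [hall a hab.1, hall b hab.2, sub_self]
  · rfl

theorem nsmul_five (h : modV) : 5 • h = 0 := by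
  refine Subtype.ext (funext fun a => funext fun b => ?_)
  show 5 • h.1 a b = 0
  rw [nsmul_eq_mul, show ((5 : ℕ) : ZMod 5) = 0 from rfl, zero_mul]

end Cfsg.Agent.Lib.UnitalCode
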