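import Mathlib

/-!
The field with sixteen elements as bit strings modulo `X⁴ + X + 1`, with a decidable arithmetic.
-/

set_option autoImplicit false

namespace Cfsg.Agent.Lib.UnitalCode

/-- An element of the field with sixteen elements. -/
structure Hex where
  /-- The bit string. -/
  num : Fin 16
deriving DecidableEq

/-- The numbering. -/
def hexEquiv : Hex ≃ Fin 16 := ⟨Hex.num, Hex.mk, fun _ => rfl, fun _ => rfl⟩

instance hexFintype : Fintype Hex := Fintype.ofEquiv (Fin 16) hexEquiv.symm

/-- The element with a given number. -/
def hx (n : ℕ) : Hex := ⟨Fin.ofNat 16 n⟩

/-- The packed multiplication table. -/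
def hexTable : ℕ := 116196760129267793630862849262464326346044543732748708940920453221664288556434379745879494961270582141731748813355742142288220638766218855867759359510984593843506004200114943278699875244065120512813025380665946106619127097398772031257643617143689515450995722003729973585221105779229319991106539050771048038400

/-- The packed table of inverses. -/
def hexInvTable : ℕ := 9460475325918865680

/-- Addition. -/
def hexAdd (a b : Hex) : Hex := hx (a.num.val ^^^ b.num.val)

/-- Multiplication. -/
def hexMul (a b : Hex) : Hex := hx (hexTable >>> (4 * (16 * a.num.val + b.num.val)) % 16)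

/-- Inversion. -/
def hexInv (a : Hex) : Hex := hx (hexInvTable >>> (4 * a.num.val) % 16)

instance hexZero : Zero Hex := ⟨⟨0⟩⟩
instance hexOne : One Hex := ⟨⟨1⟩⟩
instance hexAddInst : Add Hex := ⟨hexAdd⟩
instance hexMulInst : Mul Hex := ⟨hexMul⟩
instance hexNegInst : Neg Hex := ⟨id⟩

set_option maxRecDepth 20000 in
instance hexCommRing : CommRing Hex where
  add := hexAdd
  mul := hexMul
  neg a := a
  nsmul := nsmulRec
  zsmul := zsmulRec
  add_assoc := by decide +kernel
  zero_add := by decide +kernel
  add_zero := by decide +kernel
  neg_add_cancel := by decide +kernel
  add_comm := by decide +kernel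
  left_distrib := by decide +kernel
  right_distrib := by decide +kernel
  zero_mul := by decide +kernel
  mul_zero := by decide +kernel
  mul_assoc := by decide +kernel
  one_mul := by decide +kernel
  mul_one := by decide +kernel
  mul_comm := by decide +kernel

instance hexField : Field Hex where
  inv := hexInv
  exists_pair_ne := ⟨0, 1, by decide +kernel⟩
  mul_inv_cancel := by decide +kernel
  inv_zero := by decide +kernel
  nnqsmul := _
  qsmul := _

theorem card_hex : Fintype.card Hex = 16 := Fintype.card_congr hexEquiv

end Cfsg.Agent.Lib.UnitalCode
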